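import Mathlib

/-! Functional calculus for commuting matrices `g, s` with `g ^ Q = g`, `s ^ Q = s` over the field with `Q` elements. -/

set_option autoImplicit false

namespace CL.KGC

open Polynomial Finset Matrix

variable {K : Type*} [Field K] [Fintype K] [DecidableEq K]

section one

variable {A : Type*} [Ring A] [Algebra K A]

/-- the spectral idempotent. -/
def e (a : K) (z : A) : A := 1 - (z - algebraMap K A a) ^ (Fintype.card K - 1)

theorem e_self (a b : K) : e a b = if b = a then 1 else 0 := by
  unfold e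
  split_ifs with h
  · rw [h]
    simp [Nat.sub_ne_zero_of_lt Fintype.one_lt_card]
  · simp [FiniteField.pow_card_sub_one_eq_one _ (sub_ne_zero.2 h)]

omit [DecidableEq K] in
theorem map_e {B F : Type*} [Ring B] [Algebra K B] [FunLike F A B] [AlgHomClass F K A B] (f : F)
    (a : K) (z : A) : f (e a z) = e a (f z) := by
  simp [e, AlgHomClass.commutes]

omit [DecidableEq K] in
theorem ae {z : A} (hz : z ^ Fintype.card K = z) {P R : K[X]} (h : ∀ a, P.eval a = R.eval a) :
    aeval z P = aeval z R := by
  have hm : (X ^ Fintype.card K - X : K[X]).Monic :=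
    (monic_X_pow _).sub_of_left (by rw [degree_X_pow, degree_X]; exact_mod_cast Fintype.one_lt_card)
  have hd : (X ^ Fintype.card K - X : K[X]).natDegree = Fintype.card K :=
    FiniteField.X_pow_card_sub_X_natDegree_eq K Fintype.one_lt_card
  have h1 := modByMonic_add_div (P - R) (X ^ Fintype.card K - X : K[X])
  have h2 : (P - R) %ₘ (X ^ Fintype.card K - X : K[X]) = 0 := by
    refine eq_zero_of_natDegree_lt_card_of_eval_eq_zero _ Function.injective_id (fun a => ?_) ?_
    · have := congrArg (eval a) h1
      simpa [FiniteField.pow_card, h a] using this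
    · exact (natDegree_modByMonic_lt _ hm (fun e => by
        rw [e, natDegree_one] at hd; exact Fintype.card_ne_zero hd.symm)).trans_eq hd
  rw [← sub_eq_zero, ← map_sub, ← h1, h2]
  simp [hz]

omit [DecidableEq K] in
theorem e_eq (a : K) (z : A) : e a z = aeval z (e a (X : K[X])) := by rw [map_e, aeval_X]

theorem ev_e (a b : K) : (e a (X : K[X])).eval b = if b = a then 1 else 0 := by
  rw [← coe_aeval_eq_eval, ← e_eq, e_self]

variable {z : A} (hz : z ^ Fintype.card K = z)
include hz

theorem e_mul (a b : K) : e a z * e b z = if a = b then e a z else 0 := by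
  rw [e_eq a, e_eq b, ← map_mul]
  split_ifs with h
  · exact ae hz fun c => by rw [eval_mul, ← h, ev_e]; split_ifs <;> simp
  · rw [← map_zero (aeval z : K[X] →ₐ[K] A)]
    refine ae hz fun c => ?_
    rw [eval_mul, ev_e, ev_e, eval_zero]
    split_ifs with h1 h2
    · exact absurd (h1.symm.trans h2) h
    all_goals simp

theorem e_sum : ∑ a : K, e a z = 1 := by
  simp_rw [e_eq _ z]
  rw [← map_sum, ← map_one (aeval z : K[X] →ₐ[K] A)]
  exact ae hz fun c => by simp [eval_finsetSum, ev_e]

theorem e_sum' : ∑ a : K, a • e a z = z := by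
  simp_rw [e_eq _ z, ← map_smul]
  rw [← map_sum]
  conv_rhs => rw [← aeval_X (R := K) z]
  exact ae hz fun c => by simp [eval_finsetSum, ev_e]

omit hz [DecidableEq K] in
theorem e_comm {x : A} (h : Commute x z) (a : K) : Commute x (e a z) :=
  (Commute.one_right x).sub_right ((h.sub_right (Algebra.commutes a x).symm).pow_right _)

omit hz in
theorem exists_hom {g s : A} (hg : g ^ Fintype.card K = g) (hs : s ^ Fintype.card K = s)
    (h : Commute g s) : ∃ Φ : (K × K → K) →ₐ[K] A, Φ Prod.fst = g ∧ Φ Prod.snd = s ∧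
      ∀ f, Φ f = ∑ i : K × K, f i • (e i.1 g * e i.2 s) := by
  have h1 : ∑ i : K × K, e i.1 g * e i.2 s = 1 := by
    rw [Fintype.sum_prod_type]
    simp_rw [← mul_sum, e_sum hs, mul_one, e_sum hg]
  have h2 : ∀ i j : K × K, (e i.1 g * e i.2 s) * (e j.1 g * e j.2 s) =
      if i = j then e i.1 g * e i.2 s else 0 := fun i j => by
    rw [(e_comm (e_comm h i.2).symm j.1).mul_mul_mul_comm, e_mul hg, e_mul hs]
    by_cases h1 : i.1 = j.1 <;> by_cases h2 : i.2 = j.2 <;> simp [Prod.ext_iff, h1, h2]
  refine ⟨AlgHom.ofLinearMap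
    { toFun := fun f => ∑ i : K × K, f i • (e i.1 g * e i.2 s)
      map_add' := fun f f' => by simp [add_smul, sum_add_distrib]
      map_smul' := fun c f => by simp [smul_sum, mul_smul] } (by simpa using h1) fun f f' => ?_,
    ?_, ?_, fun _ => rfl⟩
  · simp only [LinearMap.coe_mk, AddHom.coe_mk, sum_mul_sum, smul_mul_smul_comm, h2, Pi.mul_apply]
    simp
  · change ∑ i : K × K, i.1 • (e i.1 g * e i.2 s) = g
    rw [Fintype.sum_prod_type]
    simp_rw [← smul_sum, ← mul_sum, e_sum hs, mul_one, e_sum' hg]
  · change ∑ i : K × K, i.2 • (e i.1 g * e i.2 s) = s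
    rw [Fintype.sum_prod_type_right]
    simp_rw [← smul_sum, ← sum_mul, e_sum hg, one_mul, e_sum' hs]

end one

variable {n : Type*} [Fintype n] [DecidableEq n]

omit [Fintype K] [DecidableEq K] in
theorem idem {E : Matrix n n K} (hE : E * E = E) : ∃ m : ℕ, m ≤ Fintype.card n ∧ trace E = m ∧
    ∀ c : K, det (1 + (c - 1) • E) = c ^ m := by
  have hp : LinearMap.IsProj (LinearMap.range (toLin' E)) (toLin' E) :=
    LinearMap.IsIdempotentElem.isProj_range _ (by
      change toLin' E ∘ₗ toLin' E = toLin' E
      rw [← toLin'_mul, hE])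
  refine ⟨Module.finrank K (LinearMap.range (toLin' E)), ?_, ?_, fun c => ?_⟩
  · simpa using Submodule.finrank_le (LinearMap.range (toLin' E))
  · rw [← hp.trace, trace_toLin'_eq]
  · have h1 : toLin' (1 + (c - 1) • E) = ((LinearMap.range (toLin' E)).prodEquivOfIsCompl
        (LinearMap.ker (toLin' E)) hp.isCompl).conj (LinearMap.prodMap (c • LinearMap.id) LinearMap.id) := by
      have h2 : LinearMap.prodMap (c • LinearMap.id) LinearMap.id =
          (1 : Module.End K (LinearMap.range (toLin' E) × LinearMap.ker (toLin' E))) +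
            (c - 1) • LinearMap.prodMap LinearMap.id 0 := by
        refine LinearMap.ext fun v => Prod.ext ?_ ?_ <;> simp [sub_smul]
      rw [h2, map_add, map_add, map_smul, map_smul, ← hp.eq_conj_prodMap, toLin'_one]
      congr 1
      exact (LinearEquiv.conj_id _).symm
    rw [← LinearMap.det_toLin', h1, LinearEquiv.conj_apply, LinearMap.comp_assoc, LinearMap.det_conj,
      LinearMap.det_prodMap, LinearMap.det_smul]
    simp

omit [Fintype K] [DecidableEq K] in
theorem det_hom {ι : Type*} [Fintype ι] [DecidableEq ι] (Φ : (ι → K) →ₐ[K] Matrix n n K) (m : ι → ℕ)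
    (hm : ∀ i (c : K), det (1 + (c - 1) • Φ (Pi.single i 1)) = c ^ m i) (f : ι → K) :
    det (Φ f) = ∏ i, f i ^ m i := by
  have := map_prod (detMonoidHom.comp (Φ : (ι → K) →* Matrix n n K)) (fun i => Pi.mulSingle i (f i)) univ
  rw [univ_prod_mulSingle] at this
  refine this.trans (prod_congr rfl fun i _ => ?_)
  rw [← hm, ← map_smul, ← map_one Φ, ← map_add]
  change det (Φ _) = _
  congr 2
  ext j
  by_cases h : j = i
  · subst h; simp
  · simp [h]

/-- `det (x E + 1 - E)`. -/
def D (x E : Matrix n n K) : K := det (x * E + 1 - E)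

omit [Fintype K] [DecidableEq K] in
theorem D_mul {E y : Matrix n n K} (hE : E * E = E) (h : Commute y E) (x : Matrix n n K) :
    D (x * y) E = D x E * D y E := by
  rw [D, D, D, ← det_mul]
  congr 1
  have h1 : E * y * E = y * E := by rw [← h.eq, mul_assoc, hE]
  have h2 : x * E * E = x * E := by rw [mul_assoc, hE]
  have h3 : x * E * (y * E) = x * y * E := by rw [mul_assoc, ← mul_assoc E, h1, mul_assoc]
  have h4 : E * (y * E) = y * E := by rw [← mul_assoc, h1]
  simp only [add_mul, mul_add, sub_mul, mul_sub, one_mul, mul_one, h2, h3, h4, hE]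
  abel

omit [Fintype K] [DecidableEq K] in
theorem D_one (E : Matrix n n K) : D 1 E = 1 := by simp [D]

omit [DecidableEq K] in
theorem D_unip {E u : Matrix n n K} (hE : E * E = E) (h : Commute u E)
    (hu : u ^ Fintype.card K = 1) : D u E = 1 := by
  have : ∀ k, D (u ^ k) E = D u E ^ k := fun k => by
    induction k with
    | zero => simp [D_one]
    | succ k ih => rw [pow_succ, D_mul hE h, ih, pow_succ]
  rw [← FiniteField.pow_card (D u E), ← this, hu, D_one]

omit [DecidableEq K] in
theorem tr_unip {p : ℕ} [Fact p.Prime] [CharP K p] {E u : Matrix n n K} (h : Commute u E)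
    (hu : u ^ Fintype.card K = 1) : trace (u * E) = trace E := by
  obtain ⟨N, -, hN⟩ := FiniteField.card K p
  rcases isEmpty_or_nonempty n with _ | _
  · simp [trace]
  have : IsNilpotent ((u - 1) * E) := by
    refine ((h.sub_left (Commute.one_left E)).isNilpotent_mul_right ⟨Fintype.card K, ?_⟩)
    rw [hN, sub_pow_char_pow_of_commute _ _ (Commute.one_right u), ← hN, hu, one_pow, sub_self]
  have h2 := (Matrix.isNilpotent_trace_of_isNilpotent this).eq_zero
  rwa [sub_mul, one_mul, trace_sub, sub_eq_zero] at h2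

end CL.KGC
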